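import Cfsg.Agent.H105.O8.Cross
import Cfsg.Agent.H936.List12c
import Cfsg.Agent.H823.O8S.Defs
import Cfsg.Agent.H175.LD.Core33
import Cfsg.Agent.H464.L2StageOne
import Cfsg.Agent.H937.G24.Row
import Cfsg.Agent.H878.Sz.MainThree
import Cfsg.Agent.H878.Sz.MainP3
import Cfsg.Agent.H179.JoneL
import Cfsg.Agent.H659.J1Not11
import Cfsg.Agent.H95.JT.Core
import Cfsg.Agent.H753.AbSz
import Cfsg.Agent.S2126

/-!
# S3938-OPLUS8 (O4): no cross characteristic socle (helper532)

* `cross_of_known` : with the hypothesis that the socle is known.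
-/

set_option autoImplicit false

namespace Cfsg.Agent.H532.O8S

open Cfsg Cfsg.Geo Cfsg.Agent.OrdDiv Cfsg.Agent.H436 Cfsg.Agent.H264.FKS Cfsg.Agent.H902
open Cfsg.Agent.H902.Names Cfsg.Agent.H708.O8 Cfsg.Agent.H915.LD Cfsg.Agent.H884.El Cfsg.Agent.H936.List12
open Cfsg.Agent.H912.Bd Cfsg.Agent.H912.Five Cfsg.Agent.H823.O8S
open Cfsg.Agent.H105.O8 (lie_dvd charP_of)
open scoped MatrixGroups Matrix

universe u

/-! ### Numbers -/

/-- a multiple of the orders of the automorphism groups of the generic candidates -/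
def B0 : ℕ := 2 ^ 40 * 3 ^ 20 * 5 ^ 2 * 7 * 11 * 17 * 23

theorem six_dvd {p a r k : ℕ} (h : RK p a r k) : 6 ∣ r - 1 := by
  have hr := h.prim.prime
  have hf := Fact.mk hr
  have h0 : ((p : ℕ) : ZMod r) ≠ 0 := by
    rw [ne_eq, ZMod.natCast_eq_zero_iff]
    exact h.prim.not_dvd
  have h1 := ZMod.pow_card_sub_one_eq_one h0
  have h2 : r ∣ p ^ (r - 1) - 1 := by
    rw [← ZMod.natCast_eq_zero_iff, Nat.cast_sub (Nat.one_le_pow _ _ h.hp.pos)]
    push_cast
    rw [h1, sub_self]
  exact (Dvd.intro a rfl).trans ((h.prim.dvd_iff _).1 h2)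

theorem dvd_B0 {p a r k : ℕ} (h : RK p a r k) (hd : r ^ k ∣ B0 * 13) : r = 13 ∧ k = 1 := by
  have hr := h.prim.prime
  have h6 := six_dvd h
  rcases h.cases with ⟨h13, rfl⟩ | ⟨rfl, rfl⟩
  · rw [pow_one] at hd
    have hs : ∀ {s k : ℕ}, s.Prime → r ∣ s ^ k → r = s := fun hs h =>
      (Nat.prime_dvd_prime_iff_eq hr hs).1 (hr.dvd_of_dvd_pow h)
    have hs1 : ∀ {s : ℕ}, s.Prime → r ∣ s → r = s := fun hs h => (Nat.prime_dvd_prime_iff_eq hr hs).1 h
    unfold B0 at hd
    rcases hr.dvd_mul.1 hd with hd | hd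
    rcases hr.dvd_mul.1 hd with hd | hd
    rcases hr.dvd_mul.1 hd with hd | hd
    rcases hr.dvd_mul.1 hd with hd | hd
    rcases hr.dvd_mul.1 hd with hd | hd
    rcases hr.dvd_mul.1 hd with hd | hd
    rcases hr.dvd_mul.1 hd with hd | hd
    · have := hs Nat.prime_two hd; omega
    · have := hs Nat.prime_three hd; omega
    · have := hs Nat.prime_five hd; omega
    · have := hs1 (by norm_num) hd; omega
    · have := hs1 (by norm_num) hd; omega
    · have := hs1 (by norm_num) hd; subst this; omega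
    · have := hs1 (by norm_num) hd; subst this; omega
    · exact ⟨hs1 (by norm_num) hd, rfl⟩
  · exfalso
    unfold B0 at hd
    norm_num at hd

theorem not_dvd_B0 {p a r k : ℕ} (h : RK p a r k) : ¬ r ^ k ∣ B0 := by
  intro hd
  obtain ⟨rfl, rfl⟩ := dvd_B0 h (hd.trans (Dvd.intro _ rfl))
  unfold B0 at hd
  norm_num at hd

theorem mt_ge {p a r k : ℕ} (h : RK p a r k) : 4 ≤ H823.O8S.mt (p ^ a) := by
  have h4 := h.four
  have h5 := h.five
  unfold H823.O8S.mt
  have h1 : Nat.gcd 2 (p ^ a - 1) = if (p ^ a) % 2 = 0 then 1 else 2 := by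
    split_ifs with h2
    · exact Nat.coprime_two_left.2 (Nat.odd_iff.2 (by omega))
    · exact Nat.gcd_eq_left (by omega)
  rw [h1]
  split_ifs with h2
  · omega
  · omega

theorem mt_cop {p a r k : ℕ} (h : RK p a r k) : ¬ r ∣ H823.O8S.mt (p ^ a) := by
  intro hd
  have h1 : H823.O8S.mt (p ^ a) ∣ p ^ a + 1 := by
    unfold H823.O8S.mt
    apply Nat.div_dvd_of_dvd
    rcases Nat.even_or_odd (p ^ a) with h2 | h2
    · obtain ⟨b, hb⟩ := h2
      have : Nat.gcd 2 (p ^ a - 1) ∣ 1 := by
        have h3 : Nat.gcd 2 (p ^ a - 1) ∣ p ^ a - 1 := Nat.gcd_dvd_right _ _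
        have h4 : Nat.gcd 2 (p ^ a - 1) ∣ 2 := Nat.gcd_dvd_left _ _
        have h5 : Nat.gcd 2 (p ^ a - 1) ∣ p ^ a := h4.trans ⟨b, by omega⟩
        have h6 := Nat.dvd_sub h5 h3
        have h7 : p ^ a - (p ^ a - 1) = 1 := by
          have := h.four
          omega
        rwa [h7] at h6
      exact this.trans (one_dvd _)
    · obtain ⟨b, hb⟩ := h2
      exact (Nat.gcd_dvd_left _ _).trans ⟨b + 1, by omega⟩
  refine h.prim.not_dvd_add ?_ (hd.trans h1)
  intro h2
  have ha := h.ha
  have := Nat.le_of_dvd (by omega) h2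
  omega

/-! ### Orders of automorphism groups -/

section
variable {S : Type u} [Group S] [Finite S] [IsSimpleGroup S]

theorem aut_L (hna : ¬ IsMulCommutative S) {n p f q : ℕ} (hp : p.Prime) (hf : 1 ≤ f) (hq : p ^ f = q) (hn : 2 ≤ n)
    (hn2 : n = 2 → 4 ≤ p ^ f) (h : IsL n q S)
    (hB : 24 * f * ((p ^ f) ^ (n * (n - 1) / 2) * ∏ i ∈ Finset.range (n - 1), ((p ^ f) ^ (i + 2) - 1)) ∣ B0) :
    Nat.card (MulAut S) ∣ B0 := by
  subst hq
  obtain ⟨K, iK, iKf, hK, ⟨e⟩⟩ := h
  refine (lie_dvd hna (.psl n p f) ⟨K, iK, iKf, hK, ⟨e⟩⟩ ?_).trans hB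
  rw [Nat.card_congr e.toEquiv]
  exact psl_real hp hf hK hn hn2

theorem aut_U (hna : ¬ IsMulCommutative S) {n p f q : ℕ} (hp : p.Prime) (hf : 1 ≤ f) (hq : p ^ f = q) (hn : 3 ≤ n)
    (hn2 : ¬ (n = 3 ∧ p ^ f = 2)) (h : IsU n q S)
    (hB : 24 * f * ((p ^ f) ^ (n * (n - 1) / 2) *
      ∏ i ∈ Finset.range (n - 1), (if Even i then (p ^ f) ^ (i + 2) - 1 else (p ^ f) ^ (i + 2) + 1)) ∣ B0) :
    Nat.card (MulAut S) ∣ B0 := by
  subst hq
  obtain ⟨K, iK, iKf, hK, ⟨e⟩⟩ := h
  refine (lie_dvd hna (.psu n p f) ⟨K, iK, iKf, hK, ⟨e⟩⟩ ?_).trans hB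
  rw [Nat.card_congr e.toEquiv]
  exact psu_real hp hf hK hn hn2

theorem aut_S (hna : ¬ IsMulCommutative S) {n p f q : ℕ} (hp : p.Prime) (hf : 1 ≤ f) (hq : p ^ f = q) (hn : 2 ≤ n)
    (hn2 : n = 2 → 3 ≤ p ^ f) (h : IsS n q S)
    (hB : 24 * f * ((p ^ f) ^ (n ^ 2) * ∏ i ∈ Finset.range n, ((p ^ f) ^ (2 * (i + 1)) - 1)) ∣ B0) :
    Nat.card (MulAut S) ∣ B0 := by
  subst hq
  obtain ⟨K, iK, iKf, hK, ⟨e⟩⟩ := h
  refine (lie_dvd hna (.psp n p f) ⟨K, iK, iKf, hK, ⟨e⟩⟩ ?_).trans hB
  rw [Nat.card_congr e.toEquiv]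
  exact psp_real hp hf hK hn hn2

theorem aut_OP (hna : ¬ IsMulCommutative S) {n p f q : ℕ} (hp : p.Prime) (hf : 1 ≤ f) (hq : p ^ f = q) (hn : 4 ≤ n)
    (h : IsOP n q S)
    (hB : 24 * f * ((p ^ f) ^ (n * (n - 1)) *
      (((p ^ f) ^ n - 1) * ∏ i ∈ Finset.range (n - 1), ((p ^ f) ^ (2 * (i + 1)) - 1))) ∣ B0) :
    Nat.card (MulAut S) ∣ B0 := by
  subst hq
  obtain ⟨K, iK, iKf, hK, ⟨e⟩⟩ := h
  refine (lie_dvd hna (.oplus n p f) ⟨K, iK, iKf, hK, ⟨e⟩⟩ ?_).trans hB
  rw [Nat.card_congr e.toEquiv]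
  exact oplus_real hp hf hK hn

theorem fac_dvd : Nat.factorial 12 ∣ B0 := by
  have : Nat.factorial 12 = 479001600 := by decide
  rw [this]
  unfold B0
  norm_num

theorem fac_dvd' : Nat.factorial 13 ∣ B0 * 13 := by
  have : Nat.factorial 13 = 6227020800 := by decide
  rw [this]
  unfold B0
  norm_num

omit [Finite S] [IsSimpleGroup S] in
theorem aut_A_eq {m : ℕ} (h5 : 5 ≤ m) (h6 : m ≠ 6) (e : S ≃* alternatingGroup (Fin m)) :
    Nat.card (MulAut S) = m.factorial := by
  rw [Nat.card_congr (MulAut.congr e).toEquiv, ← Nat.card_congr (Equiv.ofBijective _ (S2119.result m (by omega) h6)),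
    Nat.card_eq_fintype_card, Fintype.card_perm, Fintype.card_fin]

omit [Finite S] [IsSimpleGroup S] in
theorem aut_A {m : ℕ} (h5 : 5 ≤ m) (h12 : m ≤ 12) (e : S ≃* alternatingGroup (Fin m)) :
    Nat.card (MulAut S) ∣ B0 := by
  by_cases h6 : m = 6
  · subst h6
    rw [Nat.card_congr (MulAut.congr e).toEquiv, H824.ProdLem.card_aut_a6]
    unfold B0
    norm_num
  · rw [aut_A_eq h5 h6 e]
    exact (Nat.factorial_dvd_factorial h12).trans fac_dvd

theorem aut_spor (hna : ¬ IsMulCommutative S) (hs : IsSporadicGroup S) {x : Grp × ℕ} (hx : x ∈ OrdDiv.spor)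
    (hr : OrdDiv.Real x.1 S) (hB : 2 * x.2 ∣ B0) : Nat.card (MulAut S) ∣ B0 := by
  have h1 := OrdDiv.table.spor S x hx hr
  have h2 : Nat.card (Cfsg.Out S) ≤ 2 := H498.SporOut.index_le_two hs
  have h3 : 0 < Nat.card (Cfsg.Out S) := Nat.card_pos
  rw [← H934.OutB.card_out_mul S hna, h1]
  refine (Nat.mul_dvd_mul ?_ (dvd_refl _)).trans hB
  interval_cases Nat.card (Cfsg.Out S) <;> norm_num

end

/-! ### `Sz(8)` -/

/-- the elements commuting with an element of order 13 -/
theorem sz8_comm {K : Type} [Field K] [Fintype K] (hK : Fintype.card K = 2 ^ (2 * 1 + 1)) {g y : Cfsg.Sz K 1}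
    (hg : orderOf g = 13) (hy : y * g = g * y) : y ^ 13 = 1 := by
  have hfin : Finite (Cfsg.suzukiOvoid K 1) := Finite.of_equiv _ (Cfsg.Agent.LieExceptional.SuzukiBasic.ovoidEquiv K 1)
  have HH := Cfsg.Agent.LieExceptional.SuzukiHyp.hyp (F := K) le_rfl hK
  have h13 : Fact (Nat.Prime 13) := ⟨by norm_num⟩
  have hfree : g ∈ Cfsg.Agent.LieExceptional.SuzukiTori.Hyp.free (Cfsg.Sz K 1) (Cfsg.suzukiOvoid K 1) := by
    show Nat.card (MulAction.fixedBy (Cfsg.suzukiOvoid K 1) g) = 0
    have h1 := Cfsg.Agent.LieExceptional.SuzukiTori.card_modEq_fixedBy (Ω := Cfsg.suzukiOvoid K 1) (p := 13)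
      (by norm_num) (show g ^ 13 = 1 by rw [← hg, pow_orderOf_eq_one])
    have h2 := HH.three g (by rintro rfl; rw [orderOf_one] at hg; omega)
    rw [HH.card_set] at h1
    have h3 : (2 ^ (2 * 1 + 1)) ^ 2 + 1 = 65 := by norm_num
    rw [h3] at h1
    unfold Nat.ModEq at h1
    omega
  have hle := Cfsg.Agent.H753.AbSz.card_free_le HH hfree
  have h4 : 2 ^ (2 * 1 + 1) + 2 ^ (1 + 1) + 1 = 13 := by norm_num
  rw [h4] at hle
  have hsub : Subgroup.zpowers g ≤ Subgroup.centralizer ({g} : Set (Cfsg.Sz K 1)) := by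
    rw [Subgroup.zpowers_le, Subgroup.mem_centralizer_singleton_iff]
  have heq : Subgroup.zpowers g = Subgroup.centralizer ({g} : Set (Cfsg.Sz K 1)) :=
    Subgroup.eq_of_le_of_card_ge hsub (by rw [Nat.card_zpowers, hg]; exact hle)
  have hmem : y ∈ Subgroup.zpowers g := by
    rw [heq, Subgroup.mem_centralizer_singleton_iff]
    exact hy
  obtain ⟨n, rfl⟩ := Subgroup.mem_zpowers_iff.1 hmem
  rw [← zpow_natCast, ← zpow_mul, mul_comm, zpow_mul, zpow_natCast, ← hg, pow_orderOf_eq_one, one_zpow]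

theorem card_aut_sz8 {S : Type u} [Group S] [Finite S] [IsSimpleGroup S] (hna : ¬ IsMulCommutative S)
    (h : IsSz8 S) : Nat.card S = 29120 ∧ Nat.card (MulAut S) = 3 * Nat.card S := by
  obtain ⟨K, iK, iKf, hK, ⟨e⟩⟩ := h
  have h1 := OrdDiv.table.{0}.sz K 1 le_rfl hK
  have h2 : Nat.card S = Nat.card ↥(Lie.Sz K (2 ^ (1 + 1))) := Nat.card_congr e.toEquiv
  have h3 := Cfsg.Agent.S2126.result (F := K) (m := 1) le_rfl hK
  have h4 : Nat.card (Cfsg.Out S) = 3 := by
    rw [H934.OutB.card_out_congr e]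
    exact h3
  constructor
  · rw [h2, h1]
    rfl
  · rw [← H934.OutB.card_out_mul S hna, h4]

theorem sz8_row {R : Type u} [Group R] [Finite R] (S : Subgroup R) [hn : S.Normal] [IsSimpleGroup S]
    (hna : ¬ IsMulCommutative S) (hC : Subgroup.centralizer (S : Set R) = ⊥) (h : IsSz8 S) {x t : R}
    (hx : orderOf x = 13) (hxt : x * t = t * x) : t ^ 39 = 1 := by
  obtain ⟨h1, h2⟩ := card_aut_sz8 hna h
  have h3 : S.index ∣ 3 := by
    have h4 := dvd_aut S hC
    rw [h2, ← Subgroup.index_mul_card S] at h4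
    exact Nat.dvd_of_mul_dvd_mul_right Nat.card_pos h4
  have hmem : ∀ y : R, y ^ 3 ∈ S := by
    intro y
    obtain ⟨c, hc⟩ := h3
    rw [hc, pow_mul]
    exact pow_mem (Subgroup.pow_index_mem S y) c
  have hx' : x ∈ S := by
    have h4 : x ^ 27 = x := by
      have h5 : x ^ 27 = x ^ 13 * x ^ 13 * x := by group
      rw [h5, ← hx, pow_orderOf_eq_one, one_mul, one_mul]
    rw [← h4, show (27 : ℕ) = 3 * 9 by norm_num, pow_mul]
    exact pow_mem (hmem x) 9
  obtain ⟨K, iK, iKf, hK, ⟨e⟩⟩ := h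
  have hK' : Fintype.card K = 2 ^ (2 * 1 + 1) := hK
  obtain ⟨f⟩ := Cfsg.Agent.OddCyclic.ClaimC.SzIso.iso (F := K) (m := 1) le_rfl hK'
  let g : S ≃* Cfsg.Sz K 1 := e.trans f.symm
  have hg : orderOf (g ⟨x, hx'⟩) = 13 := by
    rw [MulEquiv.orderOf_eq, Subgroup.orderOf_mk, hx]
  have hc : Commute x t := hxt
  have hcomm : g ⟨t ^ 3, hmem t⟩ * g ⟨x, hx'⟩ = g ⟨x, hx'⟩ * g ⟨t ^ 3, hmem t⟩ := by
    rw [← map_mul, ← map_mul]
    congr 1
    exact Subtype.ext (hc.symm.pow_left 3)
  have h5 := sz8_comm hK' hg hcomm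
  rw [← map_pow, ← map_one g] at h5
  have h6 := congrArg Subtype.val (g.injective h5)
  have h7 : (t ^ 3) ^ 13 = 1 := h6
  rwa [← pow_mul] at h7

/-! ### The theorem -/

section
variable {F : Type} [Field F] [Fintype F] {p a r k : ℕ}

theorem cross_of_known (hF : Nat.card F = p ^ a) (h : RK p a r k) {R : Subgroup (T8 F)}
    (S : Subgroup R) [S.Normal] (hS : IsSimpleGroup S) (hna : ¬ IsMulCommutative S)
    (hC : Subgroup.centralizer (S : Set R) = ⊥) {P : Subgroup (GL H708.O8.I8 F)}
    (hP : IsResidualCore (pre (quadFormPlus 4 F) R) P) (e : S ≃* Soc P) (hL : ¬ IsLieTypeChar p (Soc P))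
    (hk : IsKnownSimple' (Soc P))
    {x t : R} (hx : orderOf x = r ^ k) (ht : orderOf t = H823.O8S.mt (p ^ a)) (hxt : x * t = t * x) : False := by
  have := charP_of h.hp h.ha hF
  have hpf := Fact.mk h.hp
  let ix : H708.O8.I8 ≃ Fin 8 := finSumFinEquiv
  obtain ⟨P', hP'⟩ : ∃ P' : Subgroup (GL (Fin 8) F), P' = H936.Reix.rx ix P := ⟨_, rfl⟩
  have hC' : Core P' := by rw [hP']; exact H936.Reix.core_rx ix (core_of_residual hP)
  have e' : Soc P ≃* Soc P' := by rw [hP']; exact H936.Reix.socEquiv ix P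
  have hk' := OddHalf.Known.isKnownSimple'_congr e' (core_of_residual hP).nonabelian hk
  have hL' : ¬ IsLieTypeChar p (Soc P') := fun h => hL (OddHalf.Known.isLieTypeChar_congr e'.symm h)
  have ee : S ≃* Soc P' := e.trans e'
  have hsim : IsSimpleGroup (Soc P') := hC'.simple
  have hna' : ¬ IsMulCommutative (Soc P') := hC'.nonabelian
  have hdv : r ^ k ∣ Nat.card (MulAut (Soc P')) := by
    rw [← Nat.card_congr (MulAut.congr ee).toEquiv]
    have h1 : r ^ k ∣ Nat.card R := by
      rw [← hx]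
      exact orderOf_dvd_natCard x
    exact h1.trans (dvd_aut S hC)
  have key : ¬ Nat.card (MulAut (Soc P')) ∣ B0 := fun h1 => not_dvd_B0 h (hdv.trans h1)
  have h8 : Fintype.card (Fin 8) = 8 := Fintype.card_fin 8
  have kill : CandD p 8 (Soc P') → False := by
    intro hc
    rcases hc with hc | hc | hc | ⟨hp2, -, hc⟩ | hc
    · obtain ⟨m, h5, h14, h15, -, h12, ⟨f⟩⟩ := hc
      by_cases h13 : m ≤ 12
      · exact key (aut_A h5 h13 f)
      · have hm : m = 13 := by
          by_contra hcon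
          have := h12 (by omega)
          omega
        subst hm
        have hp5 : p = 5 := by
          by_contra hcon
          have := h15 hcon (by norm_num)
          omega
        rw [aut_A_eq (by norm_num) (by norm_num) f] at hdv
        obtain ⟨rfl, rfl⟩ := dvd_B0 h (hdv.trans fac_dvd')
        subst hp5
        have h1 := (h.prim.dvd_iff 4).1 (by norm_num)
        have ha := h.ha
        have := Nat.le_of_dvd (by norm_num) h1
        omega
    · rcases hc with ⟨q, hq, h1, h2, h3⟩ | ⟨h3, -, h4⟩ | ⟨-, -, h4⟩ | ⟨-, h4, -⟩ | ⟨-, -, -, h4⟩ | ⟨-, -, h4⟩ |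
        ⟨-, h4, -⟩ | ⟨-, -, h4⟩ | ⟨-, -, h4⟩
      · simp only [Finset.mem_insert, Finset.mem_singleton] at hq
        rcases hq with rfl | rfl | rfl | rfl | rfl | rfl | rfl | rfl
        · exact key (aut_L hna' (p := 7) (f := 1) (by norm_num) le_rfl (by norm_num) le_rfl (fun _ => by norm_num) h3
            (by unfold B0; simp only [Finset.prod_range_succ, Finset.prod_range_zero]; norm_num))
        · exact key (aut_L hna' (p := 2) (f := 3) (by norm_num) (by norm_num) (by norm_num) le_rfl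
            (fun _ => by norm_num) h3
            (by unfold B0; simp only [Finset.prod_range_succ, Finset.prod_range_zero]; norm_num))
        · exact key (aut_L hna' (p := 11) (f := 1) (by norm_num) le_rfl (by norm_num) le_rfl (fun _ => by norm_num) h3
            (by unfold B0; simp only [Finset.prod_range_succ, Finset.prod_range_zero]; norm_num))
        · obtain ⟨K, iK, iKf, hK, ⟨f⟩⟩ := h3
          have h4 := H464.Sl2.l2_degrees p hC' (K := K) (by omega) (by omega) (by rw [hK]; exact h1) f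
            (by rw [h8]; norm_num)
          rw [h8] at h4
          simp [hK] at h4
        · exact key (aut_L hna' (p := 17) (f := 1) (by norm_num) le_rfl (by norm_num) le_rfl (fun _ => by norm_num) h3
            (by unfold B0; simp only [Finset.prod_range_succ, Finset.prod_range_zero]; norm_num))
        · norm_num at h2
        · norm_num at h2
        · norm_num at h2
      · obtain ⟨K, iK, iKf, hK, ⟨f⟩⟩ := h4
        have h5 := (H175.L33.l33 hC' p h3 hK f (by rw [h8]; norm_num)).2.2.2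
        rw [h8] at h5
        omega
      · exact key (aut_U hna' (p := 3) (f := 1) (by norm_num) le_rfl (by norm_num) le_rfl (by norm_num) h4
          (by unfold B0; simp [Finset.prod_range_succ]))
      · omega
      · exact key (aut_U hna' (p := 2) (f := 1) (by norm_num) le_rfl (by norm_num) (by norm_num) (by norm_num) h4
          (by unfold B0; simp only [show 4 - 1 = 3 from rfl, Finset.prod_range_succ, Finset.prod_range_zero]
              norm_num [Nat.even_iff]))
      · exact key (aut_U hna' (p := 2) (f := 1) (by norm_num) le_rfl (by norm_num) (by norm_num) (by norm_num) h4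
          (by unfold B0; simp only [show 5 - 1 = 4 from rfl, Finset.prod_range_succ, Finset.prod_range_zero]
              norm_num [Nat.even_iff]))
      · omega
      · exact key (aut_S hna' (p := 2) (f := 1) (by norm_num) le_rfl (by norm_num) (by norm_num) (by norm_num) h4
          (by unfold B0; simp only [Finset.prod_range_succ, Finset.prod_range_zero]; norm_num))
      · exact key (aut_OP hna' (p := 2) (f := 1) (by norm_num) le_rfl (by norm_num) (by norm_num) h4
          (by unfold B0; simp only [Finset.prod_range_succ, Finset.prod_range_zero]; norm_num))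
    · rcases hc with ⟨hp2, -, hc⟩ | ⟨-, h3, -⟩
      · rcases hc with h4 | h4 | ⟨-, h4⟩ | h4 | h4 | h4
        · exact key (aut_L hna' (p := 7) (f := 1) (by norm_num) le_rfl (by norm_num) le_rfl (fun _ => by norm_num) h4
            (by unfold B0; simp only [Finset.prod_range_succ, Finset.prod_range_zero]; norm_num))
        · exact key (aut_L hna' (p := 2) (f := 2) (by norm_num) (by norm_num) (by norm_num) (by norm_num)
            (by norm_num) h4
            (by unfold B0; simp only [Finset.prod_range_succ, Finset.prod_range_zero]; norm_num))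
        · exact key (aut_U hna' (p := 2) (f := 1) (by norm_num) le_rfl (by norm_num) (by norm_num) (by norm_num) h4
            (by unfold B0; simp only [show 4 - 1 = 3 from rfl, Finset.prod_range_succ, Finset.prod_range_zero]
                norm_num [Nat.even_iff]))
        · exact key (aut_S hna' (p := 2) (f := 1) (by norm_num) le_rfl (by norm_num) (by norm_num) (by norm_num) h4
            (by unfold B0; simp only [Finset.prod_range_succ, Finset.prod_range_zero]; norm_num))
        · exact key (aut_OP hna' (p := 2) (f := 1) (by norm_num) le_rfl (by norm_num) (by norm_num) h4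
            (by unfold B0; simp only [Finset.prod_range_succ, Finset.prod_range_zero]; norm_num))
        · have h5 := (H937.G24.row hC' h4 p hp2 (by rw [h8]; norm_num)).1
          rw [h8] at h5
          omega
      · omega
    · have hsz : IsSz8 S := by
        obtain ⟨K, iK, iKf, hK, ⟨f⟩⟩ := hc
        exact ⟨K, iK, iKf, hK, ⟨ee.trans f⟩⟩
      have h1 := card_aut_sz8 hna' hc
      have h2 : r ^ k ∣ B0 * 13 := by
        refine hdv.trans ?_
        rw [h1.2, h1.1]
        unfold B0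
        norm_num
      obtain ⟨rfl, rfl⟩ := dvd_B0 h h2
      rw [pow_one] at hx
      have h3 := orderOf_dvd_of_pow_eq_one (sz8_row S hna hC hsz hx hxt)
      rw [ht] at h3
      have h4 := mt_ge h
      have h5 := mt_cop h
      have h6 : H823.O8S.mt (p ^ a) ∣ 3 := by
        have h7 : Nat.Coprime (H823.O8S.mt (p ^ a)) 13 :=
          ((Nat.Prime.coprime_iff_not_dvd (by norm_num)).2 h5).symm
        exact h7.dvd_of_dvd_mul_right (by rw [show 3 * 13 = 39 by norm_num]; exact h3)
      have := Nat.le_of_dvd (by norm_num) h6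
      omega
    · have spor : ∀ {x : Grp × ℕ}, IsSporadicGroup (Soc P') → x ∈ OrdDiv.spor → OrdDiv.Real x.1 (Soc P') →
          2 * x.2 ∣ B0 → False := fun h1 h2 h3 h4 => key (aut_spor hna' h1 h2 h3 h4)
      have hsp : IsSporadicGroup (Soc P') := by
        unfold SporC at hc
        unfold IsSporadicGroup
        tauto
      rcases hc with hc | hc | hc | hc | hc | hc | hc | hc | hc
      · exact spor hsp (x := (.m11, 7920)) (by simp [OrdDiv.spor]) hc (by unfold B0; norm_num)
      · exact spor hsp (x := (.m12, 95040)) (by simp [OrdDiv.spor]) hc (by unfold B0; norm_num)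
      · exact spor hsp (x := (.m22, 443520)) (by simp [OrdDiv.spor]) hc (by unfold B0; norm_num)
      · exact spor hsp (x := (.m23, 10200960)) (by simp [OrdDiv.spor]) hc (by unfold B0; norm_num)
      · exact spor hsp (x := (.m24, 244823040)) (by simp [OrdDiv.spor]) hc (by unfold B0; norm_num)
      · by_cases h11 : p = 11
        · subst h11
          have h1 := H179.JOne.j1_le12_iso hC' hc (by exact_mod_cast CharP.cast_eq_zero F 11) (by rw [h8]; norm_num)
          rw [h8] at h1
          omega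
        · exact H659.J1.not_core hC' hc p h11 (by rw [h8]; norm_num)
      · exact spor hsp (x := (.j2, 604800)) (by simp [OrdDiv.spor]) hc (by unfold B0; norm_num)
      · have h1 := (H95.JT.j3 p hC' hc (by rw [h8]; norm_num)).2.1
        rw [h8] at h1
        omega
      · obtain ⟨f⟩ := hc
        by_cases h3 : p = 3
        · subst h3
          have h1 := (H878.Sz.core_Suz_three hC' f (by rw [h8]; norm_num)).1
          rw [h8] at h1
          omega
        · have h1 := (H878.Sz.core_Suz hC' f (by rw [h8]; norm_num) p h3).1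
          rw [h8] at h1
          omega
  exact kill (list₂ (p := p) (n := 8) (by norm_num) hC' hk' hL')

end

end Cfsg.Agent.H532.O8S
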