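import Cfsg.Agent.H532.O8S.Cross
import Cfsg.Agent.S0000

/-!
# S3938-OPLUS8 (O4), with the classification (helper532)
-/

set_option autoImplicit false

namespace Cfsg.Agent.H532.O8S

open Cfsg Cfsg.Geo Cfsg.Agent.H708.O8 Cfsg.Agent.H915.LD Cfsg.Agent.H884.El Cfsg.Agent.H823.O8S
open scoped MatrixGroups Matrix

/-- **(O4) cross characteristic** -/
theorem cross {F : Type} [Field F] [Fintype F] {p a r k : ℕ} (hF : Nat.card F = p ^ a) (h : RK p a r k)
    {R : Subgroup (T8 F)} (S : Subgroup R) [S.Normal] (hS : IsSimpleGroup S) (hna : ¬ IsMulCommutative S)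
    (hC : Subgroup.centralizer (S : Set R) = ⊥) {P : Subgroup (GL I8 F)}
    (hP : IsResidualCore (pre (quadFormPlus 4 F) R) P) (e : S ≃* Soc P) (hL : ¬ IsLieTypeChar p (Soc P))
    {x t : R} (hx : orderOf x = r ^ k) (ht : orderOf t = H823.O8S.mt (p ^ a)) (hxt : x * t = t * x) : False := by
  have hs : IsSimpleGroup (Soc P) := (core_of_residual hP).simple
  exact cross_of_known hF h S hS hna hC hP e hL Cfsg.Agent.S0000.result hx ht hxt

end Cfsg.Agent.H532.O8S
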